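import Cfsg.Agent.H174.EB.Stab
import Cfsg.Agent.H174.SC.Mathieu
import Cfsg.Agent.H180.MElFix
import Cfsg.Agent.J4Type.Aut22
import Cfsg.Agent.H417.DegMTwentyTwo

/-!
# TEAM EB (S4522, S4515): the row M22

Criterion (P) with the 231 duads: rank 4 (S1638); every nontrivial element of odd order has at most 8 as the
2-part of the order of its centralizer, so that every character is in the principal 2-block.
-/

set_option autoImplicit false
set_option linter.unusedSectionVars false
set_option linter.style.haveILetI false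

namespace Cfsg.Agent.H174.EB

open Cfsg Cfsg.Agent.H684.EB Cfsg.Agent.H174.SC MulAction
open Cfsg.Agent.H180.MEl
open Cfsg.Agent.H866.InvolType (fx)
open Cfsg.Agent.J4Type.Aut22 (D22 mem_D22_iff exists_conj)
open Cfsg.Agent.H852.IMMathieu
open scoped Pointwise

universe u

theorem mem_M24 {g : Equiv.Perm GolayPt} (hg : g ∈ Spor.M22) : g ∈ M24 := hg.1.1

theorem fix_none {g : Equiv.Perm GolayPt} (hg : g ∈ Spor.M22) : g none = none := hg.1.2

theorem fix_zero {g : Equiv.Perm GolayPt} (hg : g ∈ Spor.M22) : g (some 0) = some 0 := hg.2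

theorem card_m22 : Nat.card Spor.M22 = 443520 := Cfsg.Agent.SporadicA.MathieuRecog.card_M22

/-- No element of odd prime order of M22 is centralized by a subgroup of order 16. -/
theorem no16_prime {p : ℕ} [hp : Fact p.Prime] (h2 : p ≠ 2) (y : Spor.M22) (hy : orderOf y = p)
    (Q : Subgroup Spor.M22) (hQ : Nat.card Q = 16) (hc : ∀ q ∈ Q, Commute q y) : False := by
  classical
  have hyM : orderOf (y : Equiv.Perm GolayPt) = p := by rw [Subgroup.orderOf_coe, hy]
  have hN : none ∈ Fx (y : Equiv.Perm GolayPt) := mem_Fx.2 (fix_none y.2)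
  have hZ : some 0 ∈ Fx (y : Equiv.Perm GolayPt) := mem_Fx.2 (fix_zero y.2)
  -- the number of fixed points
  have hfx : (fx (y : Equiv.Perm GolayPt) ≤ 6) ∧ ¬ 8 ≡ fx (y : Equiv.Perm GolayPt) [MOD p] := by
    have h1 : p ∣ 443520 := by
      rw [← card_m22, ← hy]
      exact orderOf_dvd_natCard y
    have h3 : p = 2 ∨ p = 3 ∨ p = 5 ∨ p = 7 ∨ p = 11 := by
      have h4 : (443520 : ℕ) = 2 ^ 7 * (3 ^ 2 * (5 * (7 * 11))) := by norm_num
      rw [h4] at h1
      rcases (hp.out.dvd_mul).1 h1 with h | h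
      · exact Or.inl ((Nat.prime_dvd_prime_iff_eq hp.out Nat.prime_two).1 (hp.out.dvd_of_dvd_pow h))
      rcases (hp.out.dvd_mul).1 h with h | h
      · exact Or.inr (Or.inl ((Nat.prime_dvd_prime_iff_eq hp.out Nat.prime_three).1 (hp.out.dvd_of_dvd_pow h)))
      rcases (hp.out.dvd_mul).1 h with h | h
      · exact Or.inr (Or.inr (Or.inl ((Nat.prime_dvd_prime_iff_eq hp.out Nat.prime_five).1 h)))
      rcases (hp.out.dvd_mul).1 h with h | h
      · exact Or.inr (Or.inr (Or.inr (Or.inl ((Nat.prime_dvd_prime_iff_eq hp.out (by norm_num)).1 h))))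
      · exact Or.inr (Or.inr (Or.inr (Or.inr ((Nat.prime_dvd_prime_iff_eq hp.out (by norm_num)).1 h))))
    rcases h3 with rfl | rfl | rfl | rfl | rfl
    · exact absurd rfl h2
    · rcases fx3 (mem_M24 y.2) hyM with h | h
      · rw [h]
        exact ⟨le_rfl, by decide⟩
      · exfalso
        rw [← card_Fx, Finset.card_eq_zero] at h
        rw [h] at hN
        exact absurd hN (Finset.notMem_empty _)
    · rw [fx5 (mem_M24 y.2) hyM]
      exact ⟨by norm_num, by decide⟩
    · rw [fx7 (mem_M24 y.2) hyM]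
      exact ⟨by norm_num, by decide⟩
    · rw [fx11 (mem_M24 y.2) hyM]
      exact ⟨by norm_num, by decide⟩
  -- `Q` acts on the fixed points
  let X : Finset GolayPt := Fx (y : Equiv.Perm GolayPt) \ {none, some 0}
  have hX : X.card ≤ 4 := by
    have h1 : ({none, some 0} : Finset GolayPt) ⊆ Fx (y : Equiv.Perm GolayPt) := by
      intro z hz
      rw [Finset.mem_insert, Finset.mem_singleton] at hz
      rcases hz with rfl | rfl
      · exact hN
      · exact hZ
    have h3 := Finset.card_sdiff_add_card_eq_card h1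
    have h4 : ({none, some 0} : Finset GolayPt).card = 2 := by decide
    rw [h4, card_Fx] at h3
    show (Fx (y : Equiv.Perm GolayPt) \ {none, some 0}).card ≤ 4
    omega
  have hst : ∀ q ∈ Q, ∀ z ∈ X, (q : Equiv.Perm GolayPt) z ∈ X := by
    intro q hq z hz
    rw [Finset.mem_sdiff, mem_Fx, Finset.mem_insert, Finset.mem_singleton, not_or] at hz ⊢
    obtain ⟨h1, h3, h4⟩ := hz
    refine ⟨?_, ?_, ?_⟩
    · have h5 : (y : Equiv.Perm GolayPt) * (q : Equiv.Perm GolayPt) = (q : Equiv.Perm GolayPt) * y :=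
        congrArg Subtype.val (hc q hq).eq.symm
      calc (y : Equiv.Perm GolayPt) ((q : Equiv.Perm GolayPt) z)
          = ((y : Equiv.Perm GolayPt) * (q : Equiv.Perm GolayPt)) z := rfl
        _ = ((q : Equiv.Perm GolayPt) * y) z := by rw [h5]
        _ = (q : Equiv.Perm GolayPt) ((y : Equiv.Perm GolayPt) z) := rfl
        _ = _ := by rw [h1]
    · intro h5
      exact h3 ((q : Equiv.Perm GolayPt).injective (h5.trans (fix_none q.2).symm))
    · intro h5
      exact h4 ((q : Equiv.Perm GolayPt).injective (h5.trans (fix_zero q.2).symm))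
  letI : MulAction Q X :=
    { smul := fun q z => ⟨((q : Spor.M22) : Equiv.Perm GolayPt) z, hst q q.2 z z.2⟩
      one_smul := fun z => rfl
      mul_smul := fun a b z => rfl }
  have hker : ¬ Function.Injective (MulAction.toPermHom Q X) := by
    intro hinj
    have h1 := Subgroup.card_dvd_of_injective _ hinj
    have h3 : Nat.card (Equiv.Perm X) = X.card.factorial := by
      rw [Nat.card_perm, Nat.card_eq_fintype_card, Fintype.card_coe]
    rw [hQ, h3] at h1
    have h4 : X.card.factorial ∣ 24 := by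
      have h5 : (24 : ℕ) = (4).factorial := rfl
      rw [h5]
      exact Nat.factorial_dvd_factorial hX
    exact absurd (h1.trans h4) (by norm_num)
  rw [← MonoidHom.ker_eq_bot_iff, Subgroup.eq_bot_iff_forall] at hker
  push Not at hker
  obtain ⟨q, hq, hq1⟩ := hker
  -- an involution
  have hqo : orderOf q ∣ 2 ^ 4 := by
    have h1 := orderOf_dvd_natCard q
    rw [hQ] at h1
    exact h1
  obtain ⟨k, -, hk⟩ := (Nat.dvd_prime_pow Nat.prime_two).1 hqo
  have hk0 : k ≠ 0 := by
    rintro rfl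
    rw [pow_zero, orderOf_eq_one_iff] at hk
    exact hq1 hk
  obtain ⟨j, rfl⟩ := Nat.exists_eq_succ_of_ne_zero hk0
  let t : Q := q ^ 2 ^ j
  have ht : t ∈ (MulAction.toPermHom Q X).ker := Subgroup.pow_mem _ hq _
  have hto : orderOf t = 2 := by
    show orderOf (q ^ 2 ^ j) = 2
    rw [orderOf_pow_of_dvd (by positivity) (by rw [hk]; exact pow_dvd_pow 2 (Nat.le_succ j)), hk, pow_succ,
      Nat.mul_div_cancel_left _ (by positivity)]
  have htM : orderOf (((t : Spor.M22)) : Equiv.Perm GolayPt) = 2 := by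
    rw [Subgroup.orderOf_coe, Subgroup.orderOf_coe, hto]
  have hsub : Fx (y : Equiv.Perm GolayPt) ⊆ Fx ((t : Spor.M22) : Equiv.Perm GolayPt) := by
    intro z hz
    rw [mem_Fx]
    by_cases h1 : z = none
    · rw [h1]
      exact fix_none (t : Spor.M22).2
    by_cases h3 : z = some 0
    · rw [h3]
      exact fix_zero (t : Spor.M22).2
    have hzX : z ∈ X := by
      rw [Finset.mem_sdiff, Finset.mem_insert, Finset.mem_singleton, not_or]
      exact ⟨hz, h1, h3⟩
    have h4 := congrArg (fun σ : Equiv.Perm X => σ ⟨z, hzX⟩) ((MonoidHom.mem_ker).1 ht)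
    exact congrArg Subtype.val h4
  have hft : fx ((t : Spor.M22) : Equiv.Perm GolayPt) = 8 := by
    rcases fx2 (mem_M24 (t : Spor.M22).2) htM with h | h
    · exact h
    · exfalso
      rw [← card_Fx, Finset.card_eq_zero] at h
      have := hsub hN
      rw [h] at this
      exact absurd this (Finset.notMem_empty _)
  have hcom : Commute (y : Equiv.Perm GolayPt) ((t : Spor.M22) : Equiv.Perm GolayPt) := by
    show (y : Equiv.Perm GolayPt) * ((t : Spor.M22) : Equiv.Perm GolayPt) =
      ((t : Spor.M22) : Equiv.Perm GolayPt) * y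
    exact congrArg Subtype.val (hc t t.2).eq.symm
  have hmod := card_Fx_comm (p := p) (x := (y : Equiv.Perm GolayPt)) (y := ((t : Spor.M22) : Equiv.Perm GolayPt))
    (by rw [← hyM, pow_orderOf_eq_one]) hcom
  rw [hft, Finset.inter_eq_left.2 hsub, card_Fx] at hmod
  exact hfx.2 hmod

/-- No nontrivial element of odd order of M22 is centralized by a subgroup of order 16. -/
theorem no16 (y : Spor.M22) (hy : Odd (orderOf y)) (hy1 : y ≠ 1)
    (Q : Subgroup Spor.M22) (hQ : Nat.card Q = 16) (hc : ∀ q ∈ Q, Commute q y) : False := by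
  have h1 : orderOf y ≠ 1 := fun h => hy1 (orderOf_eq_one_iff.1 h)
  obtain ⟨p, hp, hpd⟩ := Nat.exists_prime_and_dvd h1
  haveI : Fact p.Prime := ⟨hp⟩
  obtain ⟨m, hm⟩ := hpd
  have hpos : 0 < orderOf y := orderOf_pos y
  have hm0 : m ≠ 0 := by
    rintro rfl
    omega
  refine no16_prime (p := p) ?_ (y ^ m) ?_ Q hQ (fun q hq => (hc q hq).pow_right m)
  · rintro rfl
    rw [hm] at hy
    exact (Nat.not_even_iff_odd.2 hy) (even_iff_two_dvd.2 (dvd_mul_right _ _))
  · rw [orderOf_pow_of_dvd hm0 ⟨p, by rw [hm]; ring⟩, hm, Nat.mul_div_cancel _ (Nat.pos_of_ne_zero hm0)]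

/-- the index of a centralizer, in a group isomorphic to M22 -/
theorem dvd_index {K : Type u} [Group K] [Finite K] (e : Spor.M22 ≃* K) (y : K) (hy : Odd (orderOf y)) (hy1 : y ≠ 1) :
    2 ^ 4 ∣ (Subgroup.centralizer ({y} : Set K)).index := by
  have hcard : Nat.card K = 2 ^ 7 * 3465 := by
    rw [← Nat.card_congr e.toEquiv, card_m22]
    norm_num
  have h1 := (Subgroup.centralizer ({y} : Set K)).card_mul_index
  rw [hcard] at h1
  have h2 : ¬ 2 ^ 4 ∣ Nat.card (Subgroup.centralizer ({y} : Set K)) := by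
    intro h3
    haveI : Fact (Nat.Prime 2) := ⟨Nat.prime_two⟩
    obtain ⟨Q, hQ⟩ := Sylow.exists_subgroup_card_pow_prime 2 h3
    refine no16 (e.symm y) (by
      have h4 : orderOf (e.symm y) = orderOf y := orderOf_injective e.symm.toMonoidHom e.symm.injective y
      rwa [h4]) ?_
      ((Q.map (Subgroup.centralizer ({y} : Set K)).subtype).map e.symm.toMonoidHom) ?_ ?_
    · intro h4
      apply hy1
      have := congrArg e h4
      rwa [e.apply_symm_apply, map_one] at this
    · rw [Subgroup.card_map_of_injective e.symm.injective,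
        Subgroup.card_map_of_injective (Subgroup.subtype_injective _), hQ]
      norm_num
    · rintro _ ⟨_, ⟨q, -, rfl⟩, rfl⟩
      have h4 := Subgroup.mem_centralizer_singleton_iff.1 q.2
      show e.symm (q : K) * e.symm y = e.symm y * e.symm (q : K)
      rw [← map_mul, ← map_mul, h4]
  -- `2 ^ 7 ∣ |C| * |K : C|`
  set a := Nat.card (Subgroup.centralizer ({y} : Set K))
  set b := (Subgroup.centralizer ({y} : Set K)).index
  have h3 : 2 ^ 7 ∣ a * b := ⟨3465, h1⟩
  have ha : a ≠ 0 := Nat.card_pos.ne'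
  obtain ⟨i, m, hm, hai⟩ := Nat.exists_eq_two_pow_mul_odd ha
  have hi : i ≤ 3 := by
    by_contra hcon
    apply h2
    rw [hai]
    exact (pow_dvd_pow 2 (by omega)).trans (dvd_mul_right _ _)
  have h4 : 2 ^ 7 ∣ m * (2 ^ i * b) := by
    have : m * (2 ^ i * b) = a * b := by rw [hai]; ring
    rwa [this]
  have h5 : 2 ^ 7 ∣ 2 ^ i * b :=
    (Nat.Coprime.pow_left 7 (Nat.coprime_two_left.2 hm)).dvd_of_dvd_mul_left h4
  have h6 : 2 ^ 7 ∣ 2 ^ 3 * b := h5.trans (Nat.mul_dvd_mul (pow_dvd_pow 2 hi) dvd_rfl)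
  have h7 : (2 : ℕ) ^ 7 = 2 ^ 3 * 2 ^ 4 := by norm_num
  rw [h7] at h6
  exact Nat.dvd_of_mul_dvd_mul_left (by norm_num) h6

/-- Every character is in the principal block. -/
theorem mem_principal {K : Type u} [Group K] [Fintype K] (hK : Nonempty (Spor.M22 ≃* K)) {M : Ideal AlgInt}
    (hM : IsPModular 2 M) (φ : IrrCharacter K) : φ ∈ principalBlock M K := by
  obtain ⟨e⟩ := hK
  refine mem_of_index hM φ (a := 4) ?_ (fun y hy hy1 => dvd_index e y hy hy1)
  have hG : Cfsg.IsM22 K := by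
    refine ⟨?_, ?_⟩
    · haveI := Cfsg.Agent.SporadicA.MathieuRecog.simple_M22
      exact MulEquiv.isSimpleGroup e.symm
    · rw [← Nat.card_congr e.toEquiv]
      exact Cfsg.Agent.SporadicA.MathieuRecog.card_M22
  obtain ⟨f, hf⟩ := Cfsg.Agent.H417.DegMTwentyTwo.exists_enum hG
  obtain ⟨i, rfl⟩ := f.surjective φ
  rw [hf i]
  fin_cases i <;> decide

/-- Different duads have different stabilizers. -/
theorem stab_inj : letI := actSub XD2 hXD2; Function.Injective fun x : XD2 => stabilizer Spor.M22 x := by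
  classical
  let _ := actSub XD2 hXD2
  intro x y hxy
  by_contra hne
  obtain ⟨x, hx⟩ := x
  obtain ⟨y, hy⟩ := y
  have hxy' : ∀ m : Spor.M22, (m : Equiv.Perm GolayPt) • x = x → (m : Equiv.Perm GolayPt) • y = y := by
    intro m h1
    have h2 : m ∈ stabilizer Spor.M22 (⟨x, hx⟩ : XD2) := Subtype.ext h1
    have h3 : m ∈ stabilizer Spor.M22 (⟨y, hy⟩ : XD2) := by
      have h4 : stabilizer Spor.M22 (⟨x, hx⟩ : XD2) = stabilizer Spor.M22 (⟨y, hy⟩ : XD2) := hxy
      rw [← h4]
      exact h2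
    exact congrArg Subtype.val h3
  have hne' : x ≠ y := fun h => hne (Subtype.ext h)
  -- a point `c` of `y` outside `x`
  obtain ⟨c, hcy, hcx⟩ : ∃ c ∈ y, c ∉ x := by
    by_contra hcon
    push Not at hcon
    exact hne' (Finset.eq_of_subset_of_card_le hcon (by rw [hx.1, hy.1])).symm
  -- a further point
  obtain ⟨d, hd⟩ : ∃ d : GolayPt, d ∉ insert none (insert (some 0) (x ∪ y)) := by
    by_contra hcon
    push Not at hcon
    have h1 : (Finset.univ : Finset GolayPt) ⊆ insert none (insert (some 0) (x ∪ y)) := fun d _ => hcon d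
    have h2 := Finset.card_le_card h1
    have h3 := Finset.card_insert_le none (insert (some 0) (x ∪ y))
    have h4 := Finset.card_insert_le (some 0) (x ∪ y)
    have h5 := Finset.card_union_le x y
    have h6 : (Finset.univ : Finset GolayPt).card = 24 := by decide
    rw [hx.1, hy.1] at h5
    omega
  simp only [Finset.mem_insert, Finset.mem_union, not_or] at hd
  obtain ⟨hd1, hd2, hd3, hd4⟩ := hd
  obtain ⟨a, b, hab, rfl⟩ := Finset.card_eq_two.1 hx.1
  obtain ⟨-, h1, h2⟩ := hx
  have hc1 : none ≠ c := fun h => hy.2.1 (h ▸ hcy)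
  have hc2 : some 0 ≠ c := fun h => hy.2.2 (h ▸ hcy)
  simp only [Finset.mem_insert, Finset.mem_singleton, not_or] at h1 h2 hcx hd3
  obtain ⟨g, hg⟩ := Cfsg.Agent.SporadicStructure.M23Index253.exists_map Cfsg.Agent.S0366.result (n := 5) le_rfl
    ![none, some 0, a, b, c] ![none, some 0, a, b, d] (by
      intro i j h
      fin_cases i <;> fin_cases j <;> simp_all [eq_comm]) (by
      intro i j h
      fin_cases i <;> fin_cases j <;> simp_all [eq_comm])
  have e0 : (g : Equiv.Perm GolayPt) none = none := hg 0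
  have e1 : (g : Equiv.Perm GolayPt) (some 0) = some 0 := hg 1
  have e2 : (g : Equiv.Perm GolayPt) a = a := hg 2
  have e3 : (g : Equiv.Perm GolayPt) b = b := hg 3
  have e4 : (g : Equiv.Perm GolayPt) c = d := hg 4
  let m : Spor.M22 := ⟨g, ⟨g.2, e0⟩, e1⟩
  have hmy : (g : Equiv.Perm GolayPt) • y = y := by
    refine hxy' m ?_
    show (g : Equiv.Perm GolayPt) • ({a, b} : Finset GolayPt) = {a, b}
    rw [Finset.smul_finset_insert, Finset.smul_finset_singleton, Equiv.Perm.smul_def, Equiv.Perm.smul_def, e2, e3]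
  apply hd4
  rw [← hmy, ← e4]
  exact Finset.smul_mem_smul_finset (a := (g : Equiv.Perm GolayPt)) hcy

theorem aut_stab (α : Spor.M22 ≃* Spor.M22) : letI := actSub XD2 hXD2;
    ∀ x : XD2, ∃ y : XD2, (stabilizer Spor.M22 x).map α.toMonoidHom = stabilizer Spor.M22 y := by
  let _ := actSub XD2 hXD2
  rintro ⟨x, hx⟩
  obtain ⟨m, hm, hα⟩ := exists_conj α
  obtain ⟨-, hm'⟩ := (mem_D22_iff m).1 hm
  have hmx : m • x ∈ XD2 := by
    refine ⟨(Finset.card_smul_finset _ _).trans hx.1, ?_, ?_⟩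
    · intro h
      obtain ⟨z, hz, h1⟩ := Finset.mem_smul_finset.1 h
      have h1' : m z = none := h1
      rcases hm' with ⟨h2, h3⟩ | ⟨h2, h3⟩
      · rw [← h2] at h1'
        exact hx.2.1 (m.injective h1' ▸ hz)
      · rw [← h3] at h1'
        exact hx.2.2 (m.injective h1' ▸ hz)
    · intro h
      obtain ⟨z, hz, h1⟩ := Finset.mem_smul_finset.1 h
      have h1' : m z = some 0 := h1
      rcases hm' with ⟨h2, h3⟩ | ⟨h2, h3⟩
      · rw [← h3] at h1'
        exact hx.2.2 (m.injective h1' ▸ hz)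
      · rw [← h2] at h1'
        exact hx.2.1 (m.injective h1' ▸ hz)
  refine ⟨⟨m • x, hmx⟩, ?_⟩
  have key : ∀ s : Spor.M22, α s ∈ stabilizer Spor.M22 (⟨m • x, hmx⟩ : XD2) ↔
      s ∈ stabilizer Spor.M22 (⟨x, hx⟩ : XD2) := by
    intro s
    have h1 : α s ∈ stabilizer Spor.M22 (⟨m • x, hmx⟩ : XD2) ↔ (α s : Equiv.Perm GolayPt) • (m • x) = m • x :=
      Subtype.ext_iff
    have h2 : s ∈ stabilizer Spor.M22 (⟨x, hx⟩ : XD2) ↔ (s : Equiv.Perm GolayPt) • x = x := Subtype.ext_iff
    rw [h1, h2, hα s, smul_smul, inv_mul_cancel_right, mul_smul]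
    exact smul_left_cancel_iff m
  ext z
  constructor
  · rintro ⟨s, hs, rfl⟩
    exact (key s).2 hs
  · intro hz
    obtain ⟨s, rfl⟩ := α.surjective z
    exact ⟨s, (key s).1 hz, rfl⟩

/-- **M22.** -/
theorem evenB_m22 {S : Type u} [Group S] (h : Spor.IsoM22 S) : EvenB S := by
  let _ := actSub XD2 hXD2
  obtain ⟨e⟩ := h
  refine evenB_of_action e.symm XD2 stab_inj aut_stab ?_ (fun N _ _ hN M hM φ _ => mem_principal hN hM φ)
  rw [rank_pairs, Nat.card_coe_set_eq, card_XD2]
  decide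

/-- The square of an automorphism of M22 is inner. -/
theorem sq_inner {S : Type u} [Group S] (e : S ≃* Spor.M22) (α : S ≃* S) :
    ∃ s : S, ∀ x : S, ((α : MulAut S) ^ 2 ^ 1) x = s * x * s⁻¹ := by
  obtain ⟨m, hm, hα⟩ := exists_conj ((e.symm.trans α).trans e)
  obtain ⟨hm24, hm'⟩ := (mem_D22_iff m).1 hm
  have hmm : m * m ∈ Spor.M22 := by
    refine ⟨⟨M24.mul_mem hm24 hm24, ?_⟩, ?_⟩
    · show m (m none) = none
      rcases hm' with ⟨h2, h3⟩ | ⟨h2, h3⟩
      · rw [h2, h2]
      · rw [h2, h3]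
    · show m (m (some 0)) = some 0
      rcases hm' with ⟨h2, h3⟩ | ⟨h2, h3⟩
      · rw [h3, h3]
      · rw [h3, h2]
  have hα' : ∀ x : S, (e (α x) : Equiv.Perm GolayPt) = m * e x * m⁻¹ := by
    intro x
    have h1 := hα (e x)
    have h2 : ((e.symm.trans α).trans e) (e x) = e (α x) := by simp
    rwa [h2] at h1
  refine ⟨e.symm ⟨m * m, hmm⟩, fun x => ?_⟩
  have h1 : ((α : MulAut S) ^ 2 ^ 1) x = α (α x) := by
    rw [pow_one, pow_two]
    rfl
  rw [h1]
  apply e.injective
  rw [map_mul, map_mul, map_inv, e.apply_symm_apply]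
  apply Subtype.ext
  rw [hα', hα']
  show m * (m * (e x : Equiv.Perm GolayPt) * m⁻¹) * m⁻¹ = m * m * (e x : Equiv.Perm GolayPt) * (m * m)⁻¹
  group

/-- **M22**, for S4515. -/
theorem evenJ_m22 {S : Type u} [Group S] (h : Spor.IsoM22 S) : EvenJ S := by
  obtain ⟨e⟩ := id h
  exact evenJ_of_inner (fun α => ⟨1, sq_inner e α⟩) (evenB_m22 h)

end Cfsg.Agent.H174.EB
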