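import Cfsg.Agent.H684.EB.Base
import Cfsg.Agent.H610.EB.DRed
import Cfsg.Agent.Blocks.CentralProduct

/-!
# TEAM EB: criterion (P) for point stabilizers, and (LOW)

* `evenB_of_action`: `S` acts on `X` with different points having different stabilizers, the automorphisms
  of `S` permute the stabilizers, `|X| + #(orbits on X × X)` is odd, and the characters of even degree are in the
  principal block.
* `mem_of_index`: if `2 ^ a` divides `|y ^ S|` for all `y ≠ 1` of odd order, and `2 ^ a` does not divide the degree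
  of `φ`, then `φ` is in the principal block.
-/

set_option autoImplicit false
set_option linter.unusedSectionVars false
set_option linter.style.haveILetI false

namespace Cfsg.Agent.H174.EB

open Cfsg Cfsg.Agent.H694 Cfsg.Agent.H610.EB Cfsg.Agent.H684.EB MulAction
open scoped ComplexConjugate
open Cfsg.Agent.Characters.Core
open Cfsg.Agent.Blocks.Local Cfsg.Agent.Blocks.Basic

universe u v w

section stab

variable {S : Type u} [Group S] {N : Type v} [Group N] (X : Type*) [MulAction S X] (f : S ≃* N)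

/-- the images of the stabilizers -/
def stabs : Set (Subgroup N) := {H | ∃ x : X, (stabilizer S x).map f.toMonoidHom = H}

theorem map_inj {H K : Subgroup S} (h : H.map f.toMonoidHom = K.map f.toMonoidHom) : H = K :=
  Subgroup.map_injective (f := f.toMonoidHom) f.injective h

theorem conj_stab (g : S) (x : X) :
    (stabilizer S x).map (MulAut.conj g).toMonoidHom = stabilizer S (g • x) :=
  (stabilizer_smul_eq_stabilizer_map_conj g x).symm

theorem conj_map (g : S) (x : X) :
    ((stabilizer S x).map f.toMonoidHom).map (MulAut.conj (f g)).toMonoidHom =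
      (stabilizer S (g • x)).map f.toMonoidHom := by
  rw [← conj_stab, Subgroup.map_map, Subgroup.map_map]
  congr 1
  ext s
  simp

variable {X}

theorem card_stabs (hinj : Function.Injective fun x : X => stabilizer S x) :
    Nat.card (stabs X f) = Nat.card X := by
  symm
  refine Nat.card_congr (Equiv.ofBijective (fun x : X => (⟨_, x, rfl⟩ : stabs X f)) ⟨?_, ?_⟩)
  · intro x y h
    exact hinj (map_inj f (congrArg Subtype.val h))
  · rintro ⟨_, x, rfl⟩
    exact ⟨x, rfl⟩

theorem card_pairs (hinj : Function.Injective fun x : X => stabilizer S x) :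
    Nat.card (Quotient (pairRel (stabs X f) (stabs X f))) =
      Nat.card (orbitRel.Quotient S (X × X)) := by
  symm
  let F : X × X → stabs X f × stabs X f := fun z => (⟨_, z.1, rfl⟩, ⟨_, z.2, rfl⟩)
  have hF : ∀ z w : X × X, (pairRel (stabs X f) (stabs X f)) (F z) (F w) ↔ ∃ g : S, g • z = w := by
    intro z w
    constructor
    · rintro ⟨n, h1, h2⟩
      obtain ⟨g, rfl⟩ := f.surjective n
      refine ⟨g, Prod.ext ?_ ?_⟩
      · refine hinj (map_inj f ?_)
        exact (conj_map X f g z.1).symm.trans h1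
      · refine hinj (map_inj f ?_)
        exact (conj_map X f g z.2).symm.trans h2
    · rintro ⟨g, rfl⟩
      exact ⟨f g, conj_map X f g z.1, conj_map X f g z.2⟩
  refine Nat.card_congr (Equiv.ofBijective (Quotient.lift (fun z => (Quotient.mk _ (F z) :
    Quotient (pairRel (stabs X f) (stabs X f)))) ?_) ⟨?_, ?_⟩)
  · rintro a b ⟨g, hg⟩
    apply Quotient.sound
    exact (pairRel (stabs X f) (stabs X f)).symm ((hF b a).2 ⟨g, hg⟩)
  · intro a b
    induction a using Quotient.inductionOn with | _ a => ?_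
    induction b using Quotient.inductionOn with | _ b => ?_
    intro h
    obtain ⟨g, hg⟩ := (hF b a).1 ((pairRel (stabs X f) (stabs X f)).symm (Quotient.exact h))
    exact Quotient.sound ⟨g, hg⟩
  · intro z
    induction z using Quotient.inductionOn with | _ z => ?_
    obtain ⟨⟨_, x, rfl⟩, ⟨_, y, rfl⟩⟩ := z
    exact ⟨Quotient.mk _ (x, y), rfl⟩

end stab

/-- **The criterion (P) for an action.** -/
theorem evenB_of_action {S₀ : Type w} [Group S₀] {S : Type u} [Group S] (e : S₀ ≃* S) (X : Type v) [MulAction S₀ X]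
    (hinj : Function.Injective fun x : X => stabilizer S₀ x)
    (haut : ∀ (α : S₀ ≃* S₀) (x : X), ∃ y : X, (stabilizer S₀ x).map α.toMonoidHom = stabilizer S₀ y)
    (hodd : Odd (Nat.card X + Nat.card (orbitRel.Quotient S₀ (X × X))))
    (hmem : ∀ (N : Type u) [Group N] [Fintype N], Nonempty (S₀ ≃* N) → ∀ M : Ideal AlgInt, IsPModular 2 M →
      ∀ φ : IrrCharacter N, Even (charDegree (φ : N → ℂ)) → φ ∈ principalBlock M N) : EvenB S := by
  intro G _ _ N _ _ hf hC hi k hk M hM
  obtain ⟨f'⟩ := hf
  have f : S₀ ≃* N := e.trans f'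
  refine concl_of_set hM N hi hk (stabs X f) ?_ (fun φ _ h _ => hmem N ⟨f⟩ M hM φ h) (by
    rwa [card_stabs f hinj, card_pairs f hinj])
  rintro g _ ⟨x, rfl⟩
  obtain ⟨y, hy⟩ := haut ((f.trans (MulAut.conjNormal g : MulAut N)).trans f.symm) x
  refine ⟨y, ?_⟩
  rw [← hy, cmap, Subgroup.map_map, Subgroup.map_map]
  congr 1
  ext s
  simp

/-! ### (LOW) -/

/-- An integer multiple of an algebraic integer over an integer with smaller `2`-part. -/
theorem memLocalIdeal_of_dvd {M : Ideal AlgInt} (hM : IsPModular 2 M) {z : ℂ} (hz : IsIntegral ℤ z) {a n d : ℕ}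
    (hn : 2 ^ a ∣ n) (hd : ¬ 2 ^ a ∣ d) : MemLocalIdeal M ((n : ℂ) * z / d) := by
  have hprime : M.IsPrime := isPrime_of_isPModular hM
  haveI := charP_resField hM
  have hd0 : d ≠ 0 := by
    rintro rfl
    exact hd (dvd_zero _)
  -- `d = 2 ^ b * m`, `m` odd, `b < a`
  obtain ⟨b, m, hm, rfl⟩ := Nat.exists_eq_two_pow_mul_odd hd0
  have hba : b < a := by
    by_contra h
    exact hd ((pow_dvd_pow 2 (not_lt.1 h)).trans (dvd_mul_right _ _))
  obtain ⟨c, rfl⟩ := hn
  obtain ⟨e, rfl⟩ : ∃ e, a = b + e + 1 := ⟨a - b - 1, by omega⟩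
  have hm0 : (m : ℂ) ≠ 0 := by
    have : m ≠ 0 := by
      rintro rfl
      exact absurd hm (by decide)
    exact_mod_cast this
  have h1 : (((2 ^ (b + e + 1) * c : ℕ) : ℂ) * z / ((2 ^ b * m : ℕ) : ℂ)) =
      ((2 : ℕ) : ℂ) * (((2 ^ e * c : ℕ) : ℂ) * z * (m : ℂ)⁻¹) := by
    push_cast
    rw [pow_add, pow_add, pow_one]
    have h2 : (2 : ℂ) ^ b ≠ 0 := pow_ne_zero _ two_ne_zero
    field_simp
  rw [h1]
  exact memLocalIdeal_mul_right (memLocalIdeal_p hM) (memLocalRing_mul (memLocalRing_mul
    (memLocalRing_natCast _) (memLocalRing_of_isIntegral hz))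
    (memLocalRing_inv_natCast hM (fun h => (Nat.not_even_iff_odd.2 hm) (even_iff_two_dvd.2 h))))

/-- **(LOW)** -/
theorem mem_of_index {K : Type u} [Group K] [Fintype K] {M : Ideal AlgInt} (hM : IsPModular 2 M)
    (φ : IrrCharacter K) {a : ℕ} (hφ : ¬ 2 ^ a ∣ charDegree (φ : K → ℂ))
    (h : ∀ y : K, Odd (orderOf y) → y ≠ 1 → 2 ^ a ∣ (Subgroup.centralizer ({y} : Set K)).index) :
    φ ∈ principalBlock M K := by
  have hprime : M.IsPrime := isPrime_of_isPModular hM
  haveI : Fact (Nat.Prime 2) := ⟨Nat.prime_two⟩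
  show SameBlock M (fun _ => (1 : ℂ)) (φ : K → ℂ)
  refine Cfsg.Agent.Blocks.PRegular.sameBlock_of_isPRegular hM isIrrCharacter_one φ.2 fun y hy => ?_
  by_cases hy1 : y = 1
  · subst hy1
    have h1 : centralChar (fun _ : K => (1 : ℂ)) 1 - centralChar (φ : K → ℂ) 1 = 0 := by
      have h2 : (φ : K → ℂ) 1 ≠ 0 := by
        rw [irr_one_eq_charDegree φ.2]
        exact_mod_cast (charDegree_pos φ.2).ne'
      unfold centralChar
      rw [mul_div_assoc, mul_div_assoc, div_self h2, div_self one_ne_zero, sub_self]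
    rw [h1]
    exact memLocalIdeal_zero
  · have hodd : Odd (orderOf y) := by
      rw [← Nat.not_even_iff_odd, even_iff_two_dvd]
      exact hy
    have hi := h y hodd hy1
    refine memLocalIdeal_sub ?_ ?_
    · have h1 := memLocalIdeal_of_dvd hM (z := 1) isIntegral_one (d := 1) hi (by
        intro h2
        have h3 := Nat.dvd_one.1 h2
        exact hφ (by rw [h3]; exact one_dvd _))
      unfold centralChar
      simpa using h1
    · unfold centralChar
      rw [irr_one_eq_charDegree φ.2]
      exact memLocalIdeal_of_dvd hM (Cfsg.Agent.Blocks.CentralProduct.isIntegral_irr φ.2 y) hi hφ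

end Cfsg.Agent.H174.EB
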